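import Groth.Agent.Lib.ProjStalk27.Pure
import Mathlib.AlgebraicGeometry.ProjectiveSpectrum.Scheme

/-!
# Homogeneous localisations at primes contract their ideals
-/

set_option autoImplicit false

universe u

open AlgebraicGeometry HomogeneousLocalization DirectSum IsLocalRing

namespace GrothLib.ProjStalk27

variable {A : Type u} [CommRing A] (𝒜 : ℕ → AddSubgroup A) [GradedRing 𝒜] (P : Ideal A) [P.IsPrime]

/-- The inclusion of the homogeneous localisation. -/
noncomputable abbrev incl : HomogeneousLocalization.AtPrime 𝒜 P →+* Localization.AtPrime P :=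
  algebraMap _ _

theorem incl_mk (c : NumDenSameDeg 𝒜 P.primeCompl) :
    incl 𝒜 P (mk c) = IsLocalization.mk' (Localization.AtPrime P) (c.num : A) ⟨c.den, c.den_mem⟩ := by
  rw [incl, HomogeneousLocalization.algebraMap_apply, val_mk, Localization.mk_eq_mk']

theorem pure_incl : Pure (incl 𝒜 P) := by
  intro I
  refine le_antisymm (fun z hz => ?_) Ideal.le_comap_map
  obtain ⟨c, rfl⟩ := mk_surjective z
  let gens : Set A := {a | ∃ y : NumDenSameDeg 𝒜 P.primeCompl, mk y ∈ I ∧ a = y.num}
  let J := Ideal.span gens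
  have hIJ : I.map (incl 𝒜 P) ≤ J.map (algebraMap A (Localization.AtPrime P)) := by
    rw [Ideal.map_le_iff_le_comap]
    intro y hy
    obtain ⟨y, rfl⟩ := mk_surjective y
    rw [Ideal.mem_comap, incl_mk, IsLocalization.mk'_mem_map_algebraMap_iff P.primeCompl]
    exact ⟨1, one_mem _, by rw [one_mul]; exact Ideal.subset_span ⟨y, hy, rfl⟩⟩
  have hc := hIJ (Ideal.mem_comap.mp hz)
  rw [incl_mk, IsLocalization.mk'_mem_map_algebraMap_iff P.primeCompl] at hc
  obtain ⟨s, hs, hsc⟩ := hc
  have hhom : J.IsHomogeneous 𝒜 := Ideal.homogeneous_span 𝒜 gens (by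
    rintro a ⟨y, -, rfl⟩; exact ⟨y.deg, y.num.2⟩)
  obtain ⟨i, hi⟩ : ∃ i, (decompose 𝒜 s i : A) ∉ P := by
    classical
    by_contra hall
    push Not at hall
    refine hs ?_
    rw [← DirectSum.sum_support_decompose 𝒜 s]
    exact Ideal.sum_mem _ fun i _ => hall i
  have hcomp : (decompose 𝒜 s i : A) * c.num ∈ J := by
    rw [← DirectSum.coe_decompose_mul_add_of_right_mem 𝒜 c.num.2]
    exact hhom (i + c.deg) hsc
  have key : ∀ x ∈ J, ∀ (D : ℕ) (d : 𝒜 D) (hd : (d : A) ∈ P.primeCompl),
      mk (⟨D, decompose 𝒜 x D, d, hd⟩ : NumDenSameDeg 𝒜 P.primeCompl) ∈ I := by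
    intro x hx
    induction hx using Submodule.closure_induction with
    | zero =>
      intro D d hd
      rw [mk_eq_zero_of_num _ (by simp)]
      exact I.zero_mem
    | add x y _ _ ihx ihy =>
      intro D d hd
      have : (mk ⟨D, decompose 𝒜 (x + y) D, d, hd⟩ : HomogeneousLocalization.AtPrime 𝒜 P) =
          mk ⟨D, decompose 𝒜 x D, d, hd⟩ + mk ⟨D, decompose 𝒜 y D, d, hd⟩ := by
        apply val_injective
        rw [val_add, val_mk, val_mk, val_mk, Localization.add_mk_self]
        congr 1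
        simp
      rw [this]; exact I.add_mem (ihx D d hd) (ihy D d hd)
    | smul_mem r x hx =>
      intro D d hd
      obtain ⟨y, hy, rfl⟩ := hx
      by_cases hD : y.deg ≤ D
      · have e : (decompose 𝒜 (r • (y.num : A)) D : A) = (decompose 𝒜 r (D - y.deg) : A) * y.num := by
          rw [smul_eq_mul, DirectSum.coe_decompose_mul_of_right_mem_of_le 𝒜 y.num.2 hD]
        have hmem : (decompose 𝒜 r (D - y.deg) : A) * y.den ∈ 𝒜 D := by
          have := SetLike.mul_mem_graded (decompose 𝒜 r (D - y.deg)).2 y.den.2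
          rwa [Nat.sub_add_cancel hD] at this
        have : (mk ⟨D, decompose 𝒜 (r • (y.num : A)) D, d, hd⟩ : HomogeneousLocalization.AtPrime 𝒜 P) =
            mk ⟨D, ⟨_, hmem⟩, d, hd⟩ * mk y := by
          apply val_injective
          rw [val_mul, val_mk, val_mk, val_mk, Localization.mk_mul, Localization.mk_eq_mk_iff,
            Localization.r_iff_exists]
          exact ⟨1, by simp only [OneMemClass.coe_one, one_mul, Submonoid.coe_mul, e]; ring⟩
        rw [this]; exact I.mul_mem_left _ hy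
      · rw [mk_eq_zero_of_num _ (by
          apply Subtype.ext
          simp only [smul_eq_mul, ZeroMemClass.coe_zero]
          exact DirectSum.coe_decompose_mul_of_right_mem_of_not_le 𝒜 y.num.2 hD)]
        exact I.zero_mem
  let d' : 𝒜 (i + c.deg) := ⟨(decompose 𝒜 s i : A) * c.den, SetLike.mul_mem_graded (decompose 𝒜 s i).2 c.den.2⟩
  have hd' : (d' : A) ∈ P.primeCompl := mul_mem hi c.den_mem
  have hk := key _ hcomp (i + c.deg) d' hd'
  convert hk using 1
  apply val_injective
  rw [val_mk, val_mk, Localization.mk_eq_mk_iff, Localization.r_iff_exists]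
  refine ⟨1, ?_⟩
  have hN : (decompose 𝒜 ((decompose 𝒜 s i : A) * c.num) (i + c.deg) : A) = (decompose 𝒜 s i : A) * c.num :=
    DirectSum.decompose_of_mem_same 𝒜 (SetLike.mul_mem_graded (decompose 𝒜 s i).2 c.num.2)
  simp only [OneMemClass.coe_one, one_mul, d', hN]
  ring

theorem exists_deg_pos (h : ¬ (HomogeneousIdeal.irrelevant 𝒜).toIdeal ≤ P) :
    ∃ (e : ℕ) (f : A), 0 < e ∧ f ∈ 𝒜 e ∧ f ∉ P := by
  classical
  obtain ⟨x, hx, hxP⟩ := SetLike.not_le_iff_exists.mp h
  by_contra hall
  push Not at hall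
  refine hxP ?_
  rw [← DirectSum.sum_support_decompose 𝒜 x]
  refine Ideal.sum_mem _ fun i _ => ?_
  rcases Nat.eq_zero_or_pos i with rfl | hi
  · rw [show (decompose 𝒜 x 0 : A) = 0 from (HomogeneousIdeal.mem_irrelevant_iff 𝒜 x).mp hx]
    exact P.zero_mem
  · exact hall i _ hi (decompose 𝒜 x i).2

/-- The maximal ideal of the homogeneous localisation extends to a primary ideal. -/
theorem max_le_radical (h : ¬ (HomogeneousIdeal.irrelevant 𝒜).toIdeal ≤ P) (hP : P.IsHomogeneous 𝒜) :
    maximalIdeal (Localization.AtPrime P) ≤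
      ((maximalIdeal (HomogeneousLocalization.AtPrime 𝒜 P)).map (incl 𝒜 P)).radical := by
  obtain ⟨e, f, he, hf, hfP⟩ := exists_deg_pos 𝒜 P h
  rw [← Localization.AtPrime.map_eq_maximalIdeal, Ideal.map_le_iff_le_comap]
  intro a ha
  classical
  rw [← DirectSum.sum_support_decompose 𝒜 a, Ideal.mem_comap, map_sum]
  refine Ideal.sum_mem _ fun j _ => ⟨e, ?_⟩
  have haj : (decompose 𝒜 a j : A) ∈ P := hP j ha
  generalize (decompose 𝒜 a j) = b at haj
  let c : NumDenSameDeg 𝒜 P.primeCompl :=
    ⟨e * j, ⟨(b : A) ^ e, by simpa [smul_eq_mul] using SetLike.pow_mem_graded e b.2⟩,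
      ⟨f ^ j, by simpa [smul_eq_mul, mul_comm] using SetLike.pow_mem_graded j hf⟩,
      Submonoid.pow_mem P.primeCompl hfP j⟩
  have hc : mk c ∈ maximalIdeal (HomogeneousLocalization.AtPrime 𝒜 P) := by
    intro hu
    have := hu.map (incl 𝒜 P)
    rw [incl_mk, IsLocalization.AtPrime.isUnit_mk'_iff _ P] at this
    exact this (Ideal.pow_mem_of_mem P haj e he)
  have : algebraMap A (Localization.AtPrime P) (b : A) ^ e =
      algebraMap A (Localization.AtPrime P) (f ^ j) * incl 𝒜 P (mk c) := by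
    rw [incl_mk, IsLocalization.mul_mk'_eq_mk'_of_mul, ← map_pow, eq_comm, IsLocalization.mk'_eq_iff_eq_mul,
      ← map_mul]
    simp only [c, mul_comm]
  rw [this]
  exact Ideal.mul_mem_left _ _ (Ideal.mem_map_of_mem _ hc)

/-- A prime of the homogeneous localisation contracted from a prime minimal in `A` is minimal. -/
theorem mem_minimalPrimes_comap [IsNoetherianRing A] (h : ¬ (HomogeneousIdeal.irrelevant 𝒜).toIdeal ≤ P)
    (Q : Ideal A) [Q.IsPrime] (hQ : Q ∈ minimalPrimes A) (hQP : Q ≤ P)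
    (q : Ideal (HomogeneousLocalization.AtPrime 𝒜 P)) [q.IsPrime]
    (hq : ∀ c : NumDenSameDeg 𝒜 P.primeCompl, mk c ∈ q ↔ (c.num : A) ∈ Q) :
    q ∈ minimalPrimes (HomogeneousLocalization.AtPrime 𝒜 P) := by
  obtain ⟨e, f, he, hf, hfP⟩ := exists_deg_pos 𝒜 P h
  refine ⟨⟨inferInstance, bot_le⟩, fun q' hq' _ z hz => ?_⟩
  obtain ⟨c, rfl⟩ := mk_surjective z
  have hcQ : (c.num : A) ∈ Q := (hq c).mp hz
  -- `num` is nilpotent at `Q`
  have hnil : IsNilpotent (algebraMap A (Localization.AtPrime Q) (c.num : A)) := by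
    rw [← mem_nilradical, nilradical_eq_sInf, Ideal.mem_sInf]
    intro M hM
    haveI : M.IsPrime := hM
    have hle : M.comap (algebraMap A (Localization.AtPrime Q)) ≤ Q := by
      refine (Ideal.comap_mono (IsLocalRing.le_maximalIdeal (Ideal.IsPrime.ne_top hM))).trans ?_
      exact (IsLocalization.AtPrime.comap_maximalIdeal (Localization.AtPrime Q) Q).le
    exact (hQ.2 ⟨inferInstance, bot_le⟩ hle) hcQ
  obtain ⟨N, hN⟩ := hnil
  rw [← map_pow, IsLocalization.map_eq_zero_iff Q.primeCompl] at hN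
  obtain ⟨⟨u, hu⟩, huc⟩ := hN
  classical
  obtain ⟨i, hi⟩ : ∃ i, (decompose 𝒜 u i : A) ∉ Q := by
    by_contra hall
    push Not at hall
    refine hu ?_
    rw [← DirectSum.sum_support_decompose 𝒜 u]
    exact Ideal.sum_mem _ fun i _ => hall i
  have hN' : ((c.num : A) ^ N) ∈ 𝒜 (N * c.deg) := by simpa [smul_eq_mul] using SetLike.pow_mem_graded N c.num.2
  have hzero : (decompose 𝒜 u i : A) * (c.num : A) ^ N = 0 := by
    rw [← DirectSum.coe_decompose_mul_add_of_right_mem 𝒜 hN', huc, decompose_zero]; rfl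
  let w : NumDenSameDeg 𝒜 P.primeCompl :=
    ⟨e * i, ⟨(decompose 𝒜 u i : A) ^ e, by simpa [smul_eq_mul] using SetLike.pow_mem_graded e (decompose 𝒜 u i).2⟩,
      ⟨f ^ i, by simpa [smul_eq_mul, mul_comm] using SetLike.pow_mem_graded i hf⟩,
      Submonoid.pow_mem P.primeCompl hfP i⟩
  have hwq : mk w ∉ q := fun hw => hi (Ideal.IsPrime.mem_of_pow_mem inferInstance e ((hq w).mp hw))
  have hmul : (mk c) ^ N * mk w = (0 : HomogeneousLocalization.AtPrime 𝒜 P) := by
    apply val_injective
    rw [val_mul, val_pow, val_zero, val_mk, val_mk, Localization.mk_pow, Localization.mk_mul]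
    have : (c.num : A) ^ N * (w.num : A) = 0 := by
      obtain ⟨e', rfl⟩ : ∃ e', e = e' + 1 := ⟨e - 1, by omega⟩
      simp only [w, pow_succ]
      rw [mul_comm, mul_assoc, hzero, mul_zero]
    rw [this, Localization.mk_zero]
  rcases hq'.1.mem_or_mem (hmul ▸ q'.zero_mem) with h1 | h1
  · exact hq'.1.mem_of_pow_mem N h1
  · exact absurd (‹q' ≤ q› h1) hwq

theorem mk_mem_comap_iff (Q : Ideal A) [Q.IsPrime] (Q' : Ideal (Localization.AtPrime P))
    (hQ' : Q'.comap (algebraMap A (Localization.AtPrime P)) = Q) (c : NumDenSameDeg 𝒜 P.primeCompl) :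
    mk c ∈ Q'.comap (incl 𝒜 P) ↔ (c.num : A) ∈ Q := by
  rw [Ideal.mem_comap, incl_mk, ← hQ', Ideal.mem_comap, IsLocalization.mk'_mem_iff]

/-- Associated primes of the homogeneous localisation are minimal when `A` has (S₁). -/
theorem associatedPrimes_minimal [IsNoetherianRing A] (h : ¬ (HomogeneousIdeal.irrelevant 𝒜).toIdeal ≤ P)
    (hA : LocCoh.HasSk 1 A A) :
    ∀ q ∈ associatedPrimes (HomogeneousLocalization.AtPrime 𝒜 P) (HomogeneousLocalization.AtPrime 𝒜 P),
      q ∈ minimalPrimes (HomogeneousLocalization.AtPrime 𝒜 P) := by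
  haveI : IsNoetherianRing (Localization.AtPrime P) := IsLocalization.isNoetherianRing P.primeCompl _ inferInstance
  haveI := (pure_incl 𝒜 P).isNoetherianRing
  intro q hq
  obtain ⟨Q', hQ', rfl⟩ := exists_associatedPrime_comap (incl 𝒜 P) (pure_incl 𝒜 P).injective hq
  haveI := hQ'.isPrime
  let Q := Q'.comap (algebraMap A (Localization.AtPrime P))
  haveI : Q.IsPrime := Ideal.IsPrime.comap _
  have hQA : Q ∈ associatedPrimes A A :=
    Module.associatedPrimes.comap_mem_associatedPrimes_of_mem_associatedPrimes_of_isLocalizedModule_of_fg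
      P.primeCompl (Algebra.linearMap A (Localization.AtPrime P)) Q' hQ'
      ((isNoetherianRing_iff_ideal_fg A).mp ‹_› _)
  have hht : Q.height = 0 := by
    by_contra h0
    have h1 := hA Q
    rw [GrothLib.FiniteQuot.supportDim_localizedModule_self, ← WithBot.coe_natCast, ← WithBot.coe_min,
      WithBot.coe_le_coe, GrothLib.FiniteQuot.depth_localizedModule_self Q (Localization.AtPrime Q)] at h1
    haveI : IsNoetherianRing (Localization.AtPrime Q) := IsLocalization.isNoetherianRing Q.primeCompl _ inferInstance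
    have h2 : LocCoh.depth (Localization.AtPrime Q) (Localization.AtPrime Q) = 0 := by
      rw [GrothLib.CMBasics.depth_eq_zero_iff]
      refine Module.associatedPrimes.mem_associatedPrimes_of_comap_mem_associatedPrimes_of_isLocalizedModule
        Q.primeCompl (Algebra.linearMap A (Localization.AtPrime Q)) _ ?_
      rw [show Ideal.comap (algebraMap A (Localization.AtPrime Q)) (maximalIdeal (Localization.AtPrime Q)) = Q from
        IsLocalization.AtPrime.comap_maximalIdeal (Localization.AtPrime Q) Q]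
      exact hQA
    rw [h2, nonpos_iff_eq_zero, min_eq_iff] at h1
    rcases h1 with ⟨h3, -⟩ | ⟨h3, -⟩
    · simp at h3
    · exact h0 h3
  refine mem_minimalPrimes_comap 𝒜 P h Q (Ideal.height_eq_zero_iff.mp hht) ?_ _ fun c =>
    mk_mem_comap_iff 𝒜 P Q Q' rfl c
  refine (Ideal.comap_mono (IsLocalRing.le_maximalIdeal hQ'.isPrime.ne_top)).trans ?_
  exact (IsLocalization.AtPrime.comap_maximalIdeal (Localization.AtPrime P) P).le

end GrothLib.ProjStalk27
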